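import Cfsg.Agent.Omega.IId.SwNat.Trace
import Cfsg.Agent.Omega.IId.LFour.AOne
import Cfsg.Agent.Omega.TV.Full

/-!
# `[Ω₁(Z(C_S(n))), N_S(V₁)] ≤ ⟨σ⟩` (OMEGA, II.d SwNat; helper617)

`w : Wr S P M₁ M₂`, `S₁ = N_S(V₁)`, `T = C_S(n)`, `n = M₁.e nn`.

* `zT_conj` : for `y ∈ Ω₁(Z(T))`, `g ∈ S₁`: `g y g⁻¹ ∈ {y, y σ}`.  (No Sylow condition.)
-/

set_option autoImplicit false
set_option linter.unusedSectionVars false

namespace Cfsg.Agent.Omega.IId.SwNat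

open Subgroup Cfsg Cfsg.Agent.ZN Cfsg.Agent.Omega.MinPar
open Cfsg.Agent.Omega.IId.LFour
open Cfsg.Agent.Omega.S5.Mod Cfsg.Agent.Omega.S5.TT
open Cfsg.Agent.Omega.S5.TT.Pos (na ns as sn n_ne s_ne a_ne n_ne_a n_ne_s a_ne_s e_sq' mem_C)
open Cfsg.Agent.Omega.TV (EA)
open Cfsg.Agent.MinSimple.VModule (mem_zc zc_le zc_comm zc_sq zc_le_zl le_normalizer_o2 o2_isPGroup o2_le
  normalizer_le_normalizer_zc le_normalizer_zl)

universe u

variable {G : Type u} [Group G]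
variable {S : Sylow 2 G} {P V₁ V₂ L₁ L₂ : Subgroup G} {M₁ : FiveMod V₁ L₁} {M₂ : FiveMod V₂ L₂}

section fin

variable [Finite G] (w : Wr S P M₁ M₂)
include w

/-- `Ω₁(Z(T)) ≤ Ω₁(Z(O₂(P)))` -/
theorem zT_le_zcO : zc ((S : Subgroup G) ⊓ centralizer ({M₁.e nn} : Set G)) ≤ zc (o2 P) := by
  intro y hy
  obtain ⟨hyT, hyc, hy2⟩ := mem_zc.1 hy
  have h1 : y ∈ centralizer (o2 P : Set G) :=
    mem_centralizer_iff.2 fun x hx => hyc x (w.o2P_le_T hx)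
  exact mem_zc.2 ⟨centralizer_o2_le w.hG S w.star.isLoc h1, fun x hx => hyc x (w.o2P_le_T hx), hy2⟩

theorem conj_zcO {g y : G} (hg : g ∈ P) (hy : y ∈ zc (o2 P)) : g * y * g⁻¹ ∈ zc (o2 P) :=
  (mem_normalizer_iff.1 (((le_normalizer_o2 P).trans (normalizer_le_normalizer_zc _)) hg) y).1 hy

/-- the action of `L₁` on `Ω₁(Z(O₂(P)))` depends on the permutation only -/
theorem conj_eq {g g' y : G} (hg : g ∈ L₁) (hg' : g' ∈ L₁) {p : Equiv.Perm (Fin 5)} (hi : M₁.Ind g p)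
    (hi' : M₁.Ind g' p) (hy : y ∈ zc (o2 P)) : g * y * g⁻¹ = g' * y * g'⁻¹ := by
  have h1 : g'⁻¹ * g ∈ L₁ := mul_mem (inv_mem hg') hg
  have h2 : M₁.Ind (g'⁻¹ * g) 1 := by
    have := hi'.inv.mul hi
    rwa [inv_mul_cancel] at this
  have h3 : g'⁻¹ * g ∈ P ⊓ centralizer (zl (S : Subgroup G) P : Set G) := by
    refine ⟨w.L₁_le h1, ?_⟩
    rw [w.sup]
    have h4 : V₁ ⊔ V₂ ≤ centralizer ({g'⁻¹ * g} : Set G) := by
      refine sup_le (fun v hv => ?_) fun v hv => mem_C.2 (w.L₁_comm h1 hv).symm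
      exact mem_C.2 (mem_centralizer_iff.1 (FiveMod.ind_one_iff.1 h2) v hv)
    exact mem_centralizer_iff.2 fun v hv => mem_C.1 (h4 hv)
  have h4 := mem_centralizer_iff.1 (le_centralizer_zc_o2 w.hG S w.star h3) _ hy
  calc g * y * g⁻¹ = g' * ((g'⁻¹ * g) * y) * g⁻¹ := by group
    _ = g' * (y * (g'⁻¹ * g)) * g⁻¹ := by rw [h4]
    _ = g' * y * g'⁻¹ := by group

/-- `T = (T ∩ L₁)(S ∩ L₂)` -/
theorem exists_mul {t : G} (ht : t ∈ (S : Subgroup G) ⊓ centralizer ({M₁.e nn} : Set G)) :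
    ∃ a ∈ (S : Subgroup G) ⊓ L₁, ∃ b ∈ (S : Subgroup G) ⊓ L₂, ∃ p, TTp p ∧ M₁.Ind a p ∧ t = a * b := by
  obtain ⟨p, q, hp, hi, -⟩ := w.T_ind ht
  obtain ⟨a, ha, hia⟩ := w.d₁' p (ttp_dd p hp)
  refine ⟨a, ha, a⁻¹ * t, ⟨(S : Subgroup G).mul_mem ((S : Subgroup G).inv_mem ha.1) ht.1, ?_⟩, p, hp, hia,
    by group⟩
  have h1 : M₁.Ind (a⁻¹ * t) 1 := by
    have := hia.inv.mul hi
    rwa [inv_mul_cancel] at this
  exact w.mem_L₂ (mul_mem (inv_mem (w.S_le ha.1)) (w.S_le ht.1)) fun v hv =>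
    (mem_centralizer_iff.1 (FiveMod.ind_one_iff.1 h1) v hv).symm

/-- the elements of `Ω₁(Z(T))` as fixed points -/
theorem mem_zT {y : G} (hy : y ∈ zc (o2 P)) (h01 : ∀ g ∈ L₁, M₁.Ind g (Equiv.swap 0 1) → g * y * g⁻¹ = y)
    (h23 : ∀ g ∈ L₁, M₁.Ind g (Equiv.swap 2 3) → g * y * g⁻¹ = y)
    (h2 : ∀ b ∈ (S : Subgroup G) ⊓ L₂, b * y * b⁻¹ = y) :
    y ∈ zc ((S : Subgroup G) ⊓ centralizer ({M₁.e nn} : Set G)) := by
  obtain ⟨g1, hg1, hi1⟩ := M₁.exists_lift (Equiv.swap 0 1)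
  obtain ⟨g2, hg2, hi2⟩ := M₁.exists_lift (Equiv.swap 2 3)
  have hi1 : M₁.Ind g1 (Equiv.swap 0 1) := hi1
  have hi2 : M₁.Ind g2 (Equiv.swap 2 3) := hi2
  have e1 := h01 g1 hg1 hi1
  have e2 := h23 g2 hg2 hi2
  obtain ⟨hyO, hyc, hy2⟩ := mem_zc.1 hy
  refine mem_zc.2 ⟨w.o2P_le_T hyO, fun t ht => ?_, hy2⟩
  obtain ⟨a, ha, b, hb, p, hp, hia, rfl⟩ := exists_mul w ht
  have h3 : a * y * a⁻¹ = y := by
    rcases hp with rfl | rfl | rfl | rfl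
    · rw [conj_eq w ha.2 (one_mem L₁) hia M₁.ind_one hy]; group
    · exact h01 a ha.2 hia
    · exact h23 a ha.2 hia
    · have h4 : M₁.Ind (g1 * g2) dd := hi1.mul hi2
      rw [conj_eq w ha.2 (mul_mem hg1 hg2) hia h4 hy]
      calc g1 * g2 * y * (g1 * g2)⁻¹ = g1 * (g2 * y * g2⁻¹) * g1⁻¹ := by group
        _ = y := by rw [e2, e1]
  have h4 := h2 b hb
  have h5 : a * b * y * (a * b)⁻¹ = y := by
    calc a * b * y * (a * b)⁻¹ = a * (b * y * b⁻¹) * a⁻¹ := by group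
      _ = y := by rw [h4, h3]
  exact mul_inv_eq_iff_eq_mul.1 h5

/-- `S ∩ L₂` fixes `y^l`, `l ∈ L₁`, `y ∈ Ω₁(Z(T))` -/
theorem fix_L₂ {l y b : G} (hl : l ∈ L₁) (hb : b ∈ (S : Subgroup G) ⊓ L₂)
    (hy : y ∈ zc ((S : Subgroup G) ⊓ centralizer ({M₁.e nn} : Set G))) :
    b * (l * y * l⁻¹) * b⁻¹ = l * y * l⁻¹ := by
  have hyO := zT_le_zcO w hy
  have h1 := w.comm_LL hl hb.2 hyO
  have hbT : b ∈ (S : Subgroup G) ⊓ centralizer ({M₁.e nn} : Set G) := ⟨hb.1, w.L₂_le_C hb.2⟩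
  have h2 : b⁻¹ * y * b = y := by
    have h3 := (mem_zc.1 hy).2.1 _ (inv_mem hbT)
    rw [h3]; group
  calc b * (l * y * l⁻¹) * b⁻¹ = l * ((l⁻¹ * (b * l * b⁻¹)) * (b * y * b⁻¹)) * (b * l⁻¹ * b⁻¹) := by group
    _ = l * ((l⁻¹ * (b * l * b⁻¹)) * y) * (b * l⁻¹ * b⁻¹) := by
        rw [show b * y * b⁻¹ = y from by
          have h3 := (mem_zc.1 hy).2.1 _ hbT
          rw [h3]; group]
    _ = l * (y * (l⁻¹ * (b * l * b⁻¹))) * (b * l⁻¹ * b⁻¹) := by rw [h1]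
    _ = l * y * l⁻¹ := by group

/-- `[y, x] ∈ Ω₁(Z(S₁))` -/
theorem comm_x {x y : G} (hx : x ∈ (S : Subgroup G) ⊓ L₁) (hi : M₁.Ind x tt)
    (hy : y ∈ zc ((S : Subgroup G) ⊓ centralizer ({M₁.e nn} : Set G))) :
    y * (x * y * x⁻¹) = 1 ∨ y * (x * y * x⁻¹) = M₁.e ss ∨ y * (x * y * x⁻¹) = M₂.e ss ∨
      y * (x * y * x⁻¹) = M₁.e ss * M₂.e ss := by
  obtain ⟨hyT, hyc, hy2⟩ := mem_zc.1 hy
  rw [pow_two] at hy2
  set T := (S : Subgroup G) ⊓ centralizer ({M₁.e nn} : Set G) with hT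
  have hyT' : x * y * x⁻¹ ∈ T := w.conj_T hx.1 hi hyT
  have hxx : x * x ∈ T := by
    have h1 : M₁.Ind (x * x) (tt * tt) := hi.mul hi
    rw [tt_tt] at h1
    exact Wr.mem_T_of_ind (mul_mem hx.1 hx.1) (Or.inl rfl) h1
  have hback : ∀ b ∈ T, x⁻¹ * b * x ∈ T := by
    intro b hb
    have h1 := w.conj_T hx.1 hi hb
    have h2 := T.mul_mem (T.mul_mem (T.inv_mem hxx) h1) hxx
    have e : (x * x)⁻¹ * (x * b * x⁻¹) * (x * x) = x⁻¹ * b * x := by group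
    rwa [e] at h2
  have hyc' : ∀ b ∈ T, b * (x * y * x⁻¹) = x * y * x⁻¹ * b := by
    intro b hb
    have h1 := hyc _ (hback b hb)
    calc b * (x * y * x⁻¹) = x * (x⁻¹ * b * x * y) * x⁻¹ := by group
      _ = x * (y * (x⁻¹ * b * x)) * x⁻¹ := by rw [h1]
      _ = x * y * x⁻¹ * b := by group
  have hcomm : y * (x * y * x⁻¹) = x * y * x⁻¹ * y := hyc' y hyT
  have hyx2 : x * y * x⁻¹ * (x * y * x⁻¹) = 1 := by
    calc x * y * x⁻¹ * (x * y * x⁻¹) = x * (y * y) * x⁻¹ := by group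
      _ = 1 := by rw [hy2]; group
  have hxxy : x * (x * y * x⁻¹) * x⁻¹ = y := by
    have h1 := hyc _ hxx
    calc x * (x * y * x⁻¹) * x⁻¹ = (x * x * y) * (x * x)⁻¹ := by group
      _ = y := by rw [h1]; group
  refine w.zS₁_le (mem_zc.2 ⟨w.T_le (mul_mem hyT hyT'), fun b hb => ?_, ?_⟩)
  · have key : ∀ b ∈ T, b * (y * (x * y * x⁻¹)) = y * (x * y * x⁻¹) * b := by
      intro b hb
      calc b * (y * (x * y * x⁻¹)) = b * y * (x * y * x⁻¹) := by group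
        _ = y * (b * (x * y * x⁻¹)) := by rw [hyc b hb]; group
        _ = y * (x * y * x⁻¹) * b := by rw [hyc' b hb]; group
    have kx : x * (y * (x * y * x⁻¹)) = y * (x * y * x⁻¹) * x := by
      calc x * (y * (x * y * x⁻¹)) = (x * y * x⁻¹) * (x * (x * y * x⁻¹) * x⁻¹) * x := by group
        _ = (x * y * x⁻¹) * y * x := by rw [hxxy]
        _ = y * (x * y * x⁻¹) * x := by rw [hcomm]
    rcases w.mem_or₁ hx.1 hi hb with h1 | h1
    · exact key b h1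
    · have h2 := key _ h1
      refine mul_right_cancel (b := x) ?_
      calc b * (y * (x * y * x⁻¹)) * x = b * (x * (y * (x * y * x⁻¹))) := by rw [kx]; group
        _ = b * x * (y * (x * y * x⁻¹)) := by group
        _ = y * (x * y * x⁻¹) * (b * x) := h2
        _ = y * (x * y * x⁻¹) * b * x := by group
  · rw [pow_two]
    calc y * (x * y * x⁻¹) * (y * (x * y * x⁻¹)) = y * ((x * y * x⁻¹) * y) * (x * y * x⁻¹) := by group
      _ = (y * y) * ((x * y * x⁻¹) * (x * y * x⁻¹)) := by rw [← hcomm]; group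
      _ = 1 := by rw [hy2, hyx2, one_mul]

/-- `T ∩ L₁` fixes `Ω₁(Z(T))` -/
theorem fix_L₁ {g y : G} (hg : g ∈ L₁) {p : Equiv.Perm (Fin 5)} (hp : TTp p) (hi : M₁.Ind g p)
    (hy : y ∈ zc ((S : Subgroup G) ⊓ centralizer ({M₁.e nn} : Set G))) : g * y * g⁻¹ = y := by
  obtain ⟨t, ht, hit⟩ := w.d₁' p (ttp_dd p hp)
  rw [conj_eq w hg ht.2 hi hit (zT_le_zcO w hy), (mem_zc.1 hy).2.1 t (Wr.mem_T_of_ind ht.1 hp hit),
    mul_inv_cancel_right]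

/-- **`[Ω₁(Z(T)), x] ≤ ⟨σ⟩`.** -/
theorem zT_main {x y : G} (hx : x ∈ (S : Subgroup G) ⊓ L₁) (hi : M₁.Ind x tt)
    (hy : y ∈ zc ((S : Subgroup G) ⊓ centralizer ({M₁.e nn} : Set G))) :
    y * (x * y * x⁻¹) = 1 ∨ y * (x * y * x⁻¹) = M₁.e ss := by
  classical
  set W : Subgroup G := zc (o2 P) with hW
  have hsq : ∀ a ∈ W, a * a = 1 := fun a ha => by rw [← pow_two]; exact (mem_zc.1 ha).2.2
  have hVW : V₁ ≤ W := w.V₁_le.trans (w.star.isLoc.zl_le S w.hG)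
  have hV₂W : V₂ ≤ W := w.V₂_le.trans (w.star.isLoc.zl_le S w.hG)
  have hcj : ∀ {g a : G}, g ∈ L₁ → a ∈ W → g * a * g⁻¹ ∈ W := fun hg ha => conj_zcO w (w.L₁_le hg) ha
  have cW : ∀ {a b : G}, a ∈ W → b ∈ W → a * b = b * a := fun ha hb => zc_comm _ _ ha _ hb
  let N : Submodule (ZMod 2) (EA W hsq) := EA.ofSub V₁
  let q : (a : G) → a ∈ W → (EA W hsq ⧸ N) := fun a ha => Submodule.Quotient.mk (EA.mk hsq a ha)
  have q_mul : ∀ {a b : G} (ha : a ∈ W) (hb : b ∈ W), q (a * b) (mul_mem ha hb) = q a ha + q b hb :=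
    fun ha hb => rfl
  have q_congr : ∀ {a b : G} (ha : a ∈ W) (hb : b ∈ W), a = b → q a ha = q b hb := by
    rintro a b ha hb rfl; rfl
  have q_zero : ∀ {a : G} (ha : a ∈ W), a ∈ V₁ → q a ha = 0 := fun ha h =>
    (Submodule.Quotient.mk_eq_zero _).2 h
  have q_zero' : ∀ {a : G} (ha : a ∈ W), q a ha = 0 → a ∈ V₁ := fun ha h =>
    (Submodule.Quotient.mk_eq_zero _).1 h
  have hτW : M₂.e ss ∈ W := hV₂W (M₂.e_mem _)
  have hσW : M₁.e ss ∈ W := hVW (M₁.e_mem _)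
  -- classes of the elements of `⟨σ, τ⟩` are fixed by `L₁`
  have q_fix : ∀ {g d : G} (hg : g ∈ L₁) (hd : d ∈ W), (d = 1 ∨ d = M₁.e ss ∨ d = M₂.e ss ∨
      d = M₁.e ss * M₂.e ss) → q (g * d * g⁻¹) (hcj hg hd) = q d hd := by
    intro g d hg hd h
    have hτ : g * M₂.e ss * g⁻¹ = M₂.e ss := by
      rw [w.L₁_comm hg (M₂.e_mem _), mul_inv_cancel_right]
    have hσ : g * M₁.e ss * g⁻¹ ∈ V₁ := (mem_normalizer_iff.1 (M₁.le_normalizer hg) _).1 (M₁.e_mem _)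
    rcases h with rfl | rfl | rfl | rfl
    · exact q_congr _ _ (by group)
    · rw [q_zero _ hσ, q_zero _ (M₁.e_mem _)]
    · exact q_congr _ _ hτ
    · have e : g * (M₁.e ss * M₂.e ss) * g⁻¹ = (g * M₁.e ss * g⁻¹) * (g * M₂.e ss * g⁻¹) := by group
      rw [q_congr _ (mul_mem (hcj hg hσW) (hcj hg hτW)) e, q_mul (hcj hg hσW) (hcj hg hτW),
        q_mul hσW hτW, q_zero _ hσ, q_zero _ (M₁.e_mem _), q_congr _ hτW hτ]
  have hyW : y ∈ W := zT_le_zcO w hy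
  -- the function `Y`
  let lf : Equiv.Perm (Fin 5) → G := fun p => (M₁.exists_lift p).choose
  have lf_mem : ∀ p, lf p ∈ L₁ := fun p => (M₁.exists_lift p).choose_spec.1
  have lf_ind : ∀ p, M₁.Ind (lf p) p := fun p => (M₁.exists_lift p).choose_spec.2
  let Y : Equiv.Perm (Fin 5) → (EA W hsq ⧸ N) := fun p => q (lf p * y * (lf p)⁻¹) (hcj (lf_mem p) hyW)
  have hY : ∀ {g : G} {p : Equiv.Perm (Fin 5)} (hg : g ∈ L₁), M₁.Ind g p →
      q (g * y * g⁻¹) (hcj hg hyW) = Y p := fun hg h =>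
    q_congr _ _ (conj_eq w hg (lf_mem _) h (lf_ind _) hyW)
  -- the element `y'`
  obtain ⟨c, hc, hic⟩ := M₁.exists_lift cc
  have hic : M₁.Ind c cc := hic
  have hcc : c * c ∈ L₁ := mul_mem hc hc
  have hicc : M₁.Ind (c * c) (cc * cc) := hic.mul hic
  set y' : G := y * (c * y * c⁻¹) * (c * c * y * (c * c)⁻¹) with hy'
  have hy'W : y' ∈ W := mul_mem (mul_mem hyW (hcj hc hyW)) (hcj hcc hyW)
  have fy : ∀ {g : G} {p : Equiv.Perm (Fin 5)}, g ∈ L₁ → TTp p → M₁.Ind g p → g * y * g⁻¹ = y :=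
    fun hg hp h => fix_L₁ w hg hp h hy
  -- `g y^l g⁻¹ = y^{l'}` if `p r = r' p`
  have mv : ∀ {g l l' : G} {p r r' : Equiv.Perm (Fin 5)}, g ∈ L₁ → l ∈ L₁ → l' ∈ L₁ → TTp p → M₁.Ind g p →
      M₁.Ind l r → M₁.Ind l' r' → p * r = r' * p → g * (l * y * l⁻¹) * g⁻¹ = l' * y * l'⁻¹ := by
    intro g l l' p r r' hg hl hl' hp hgi hli hli' e
    have h1 : M₁.Ind (l' * g) (p * r) := by rw [e]; exact hli'.mul hgi
    calc g * (l * y * l⁻¹) * g⁻¹ = g * l * y * (g * l)⁻¹ := by group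
      _ = l' * g * y * (l' * g)⁻¹ := conj_eq w (mul_mem hg hl) (mul_mem hl' hg) (hgi.mul hli) h1 hyW
      _ = l' * (g * y * g⁻¹) * l'⁻¹ := by group
      _ = l' * y * l'⁻¹ := by rw [fy hg hp hgi]
  have split : ∀ g : G, g * y' * g⁻¹ = (g * y * g⁻¹) * (g * (c * y * c⁻¹) * g⁻¹) *
      (g * (c * c * y * (c * c)⁻¹) * g⁻¹) := by
    intro g
    rw [hy']
    group
  have hy'T : y' ∈ zc ((S : Subgroup G) ⊓ centralizer ({M₁.e nn} : Set G)) := by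
    refine mem_zT w hy'W (fun g hg hgi => ?_) (fun g hg hgi => ?_) fun b hb => ?_
    · rw [split, fy hg (Or.inr (Or.inl rfl)) hgi,
        mv hg hc hc (Or.inr (Or.inl rfl)) hgi hic hic rel1,
        mv hg hcc hcc (Or.inr (Or.inl rfl)) hgi hicc hicc (by
          rw [← mul_assoc, rel1, mul_assoc, rel1, ← mul_assoc])]
    · rw [split, fy hg (Or.inr (Or.inr (Or.inl rfl))) hgi,
        mv hg hc hcc (Or.inr (Or.inr (Or.inl rfl))) hgi hic hicc rel2,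
        mv hg hcc hc (Or.inr (Or.inr (Or.inl rfl))) hgi hicc hic (by
          rw [← mul_assoc, rel3])]
      calc y * (c * c * y * (c * c)⁻¹) * (c * y * c⁻¹) = y * ((c * c * y * (c * c)⁻¹) * (c * y * c⁻¹)) := by
            group
        _ = y * ((c * y * c⁻¹) * (c * c * y * (c * c)⁻¹)) := by rw [cW (hcj hcc hyW) (hcj hc hyW)]
        _ = y' := by rw [hy']; group
    · have hbT : b ∈ (S : Subgroup G) ⊓ centralizer ({M₁.e nn} : Set G) := ⟨hb.1, w.L₂_le_C hb.2⟩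
      rw [split, fix_L₂ w hc hb hy, fix_L₂ w hcc hb hy, (mem_zc.1 hy).2.1 b hbT, mul_inv_cancel_right]
  have hd := comm_x w hx hi hy
  have hd' := comm_x w hx hi hy'T
  have hdW : y * (x * y * x⁻¹) ∈ W := mul_mem hyW (hcj hx.2 hyW)
  have hd'W : y' * (x * y' * x⁻¹) ∈ W := mul_mem hy'W (hcj hx.2 hy'W)
  have hyy : y * y = 1 := hsq y hyW
  have hyy' : y' * y' = 1 := hsq y' hy'W
  -- `Z`
  have hZ : ∀ {g : G} {p : Equiv.Perm (Fin 5)} (hg : g ∈ L₁), M₁.Ind g p →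
      Y p + Y (p * cc) + Y (p * cc * cc) = q (g * y' * g⁻¹) (hcj hg hy'W) := by
    intro g p hg hgi
    have e1 := hY hg hgi
    have e2 := hY (mul_mem hg hc) (hgi.mul hic)
    have e3 := hY (mul_mem (mul_mem hg hc) hc) ((hgi.mul hic).mul hic)
    rw [← e1, ← e2, ← e3, ← q_mul, ← q_mul]
    exact q_congr _ _ (by rw [hy']; group)
  have hf : q _ hdW = 0 := by
    refine trace (A := EA W hsq ⧸ N) (Y := Y) (δ := q _ hd'W) (fun a => ?_) (fun p => ?_) (fun p => ?_)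
      (fun p => ?_) (fun p => ?_)
    · rw [← two_nsmul]
      have : (2 : ℕ) • a = ((2 : ℕ) : ZMod 2) • a := by rw [Nat.cast_smul_eq_nsmul]
      rw [this]
      have h0 : ((2 : ℕ) : ZMod 2) = 0 := by decide
      rw [h0, zero_smul]
    · obtain ⟨t, ht, hit⟩ := M₁.exists_lift (Equiv.swap 0 1)
      rw [← hY (mul_mem (lf_mem p) ht) ((lf_ind p).mul hit)]
      refine q_congr _ _ ?_
      calc lf p * t * y * (lf p * t)⁻¹ = lf p * (t * y * t⁻¹) * (lf p)⁻¹ := by group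
        _ = lf p * y * (lf p)⁻¹ := by rw [fy ht (Or.inr (Or.inl rfl)) hit]
    · obtain ⟨t, ht, hit⟩ := M₁.exists_lift (Equiv.swap 2 3)
      rw [← hY (mul_mem (lf_mem p) ht) ((lf_ind p).mul hit)]
      refine q_congr _ _ ?_
      calc lf p * t * y * (lf p * t)⁻¹ = lf p * (t * y * t⁻¹) * (lf p)⁻¹ := by group
        _ = lf p * y * (lf p)⁻¹ := by rw [fy ht (Or.inr (Or.inr (Or.inl rfl))) hit]
    · rw [← hY (mul_mem (lf_mem p) hx.2) ((lf_ind p).mul hi), ← q_fix (lf_mem p) hdW hd, ← q_mul]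
      refine q_congr _ _ ?_
      calc lf p * x * y * (lf p * x)⁻¹ = lf p * (1 * (x * y * x⁻¹)) * (lf p)⁻¹ := by group
        _ = lf p * (y * y * (x * y * x⁻¹)) * (lf p)⁻¹ := by rw [hyy]
        _ = lf p * y * (lf p)⁻¹ * (lf p * (y * (x * y * x⁻¹)) * (lf p)⁻¹) := by group
    · rw [hZ (mul_mem (lf_mem p) hx.2) ((lf_ind p).mul hi), hZ (lf_mem p) (lf_ind p),
        ← q_fix (lf_mem p) hd'W hd', ← q_mul]
      refine q_congr _ _ ?_
      calc lf p * x * y' * (lf p * x)⁻¹ = lf p * (1 * (x * y' * x⁻¹)) * (lf p)⁻¹ := by group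
        _ = lf p * (y' * y' * (x * y' * x⁻¹)) * (lf p)⁻¹ := by rw [hyy']
        _ = lf p * y' * (lf p)⁻¹ * (lf p * (y' * (x * y' * x⁻¹)) * (lf p)⁻¹) := by group
  have hdV := q_zero' hdW hf
  rcases hd with h | h | h | h
  · exact Or.inl h
  · exact Or.inr h
  · exfalso
    rw [h] at hdV
    exact s_ne M₂ (w.V₁_ne_V₂ hdV (M₂.e_mem _))
  · exfalso
    rw [h] at hdV
    have h1 : M₂.e ss ∈ V₁ := by
      have h2 := mul_mem (M₁.e_mem ss) hdV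
      rwa [← mul_assoc, M₁.e_sq, one_mul] at h2
    exact s_ne M₂ (w.V₁_ne_V₂ h1 (M₂.e_mem _))

/-- **`[Ω₁(Z(T)), S₁] ≤ ⟨σ⟩`.** -/
theorem zT_conj {g y : G} (hg : g ∈ (S : Subgroup G) ⊓ normalizer (V₁ : Set G))
    (hy : y ∈ zc ((S : Subgroup G) ⊓ centralizer ({M₁.e nn} : Set G))) :
    g * y * g⁻¹ = y ∨ g * y * g⁻¹ = y * M₁.e ss := by
  obtain ⟨x, hx, hi⟩ := w.exists_x
  obtain ⟨hyT, hyc, hy2⟩ := mem_zc.1 hy
  rw [pow_two] at hy2
  have key : x * y * x⁻¹ = y ∨ x * y * x⁻¹ = y * M₁.e ss := by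
    have e : x * y * x⁻¹ = y * (y * (x * y * x⁻¹)) := by rw [← mul_assoc y, hy2, one_mul]
    rcases zT_main w hx hi hy with h | h
    · left; rw [e, h, mul_one]
    · right; rw [e, h]
  rcases w.mem_or₁ hx.1 hi hg with h1 | h1
  · left
    rw [hyc g h1, mul_inv_cancel_right]
  · -- `g = t x⁻¹`, `t = g x ∈ T`
    have h2 : g * x * y * (g * x)⁻¹ = y := by rw [hyc _ h1, mul_inv_cancel_right]
    have hσ : g * M₁.e ss = M₁.e ss * g := w.S₁_comm_s₁ hg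
    have hxσ : x * M₁.e ss = M₁.e ss * x := w.S₁_comm_s₁ ⟨hx.1, M₁.le_normalizer hx.2⟩
    have h3 : x⁻¹ * y * x = y ∨ x⁻¹ * y * x = y * M₁.e ss := by
      rcases key with h | h
      · left
        calc x⁻¹ * y * x = x⁻¹ * (x * y * x⁻¹) * x := by rw [h]
          _ = y := by group
      · right
        have h4 : y = x * y * x⁻¹ * M₁.e ss := by rw [h, mul_assoc, M₁.e_sq, mul_one]
        calc x⁻¹ * y * x = x⁻¹ * (x * y * x⁻¹ * M₁.e ss) * x := by rw [← h4]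
          _ = y * (x⁻¹ * (M₁.e ss * x)) := by group
          _ = y * M₁.e ss := by rw [← hxσ, inv_mul_cancel_left]
    have h5 : g * y * g⁻¹ = (g * x) * (x⁻¹ * y * x) * (g * x)⁻¹ := by group
    rcases h3 with h | h
    · left; rw [h5, h, h2]
    · right
      have hgx : g * x * M₁.e ss = M₁.e ss * (g * x) := by
        rw [mul_assoc, hxσ, ← mul_assoc, hσ, mul_assoc]
      rw [h5, h]
      calc g * x * (y * M₁.e ss) * (g * x)⁻¹ = (g * x * y * (g * x)⁻¹) * ((g * x * M₁.e ss) * (g * x)⁻¹) := by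
            group
        _ = y * M₁.e ss := by rw [h2, hgx, mul_inv_cancel_right]

end fin

end Cfsg.Agent.Omega.IId.SwNat
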