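import Cfsg.Agent.Omega.IId.CaseA
import Cfsg.Agent.Omega.IId.OneOrth
import Cfsg.Agent.Omega.IId.LFour.AOne
import Cfsg.Agent.Omega.NO3S.PointTI
import Cfsg.Agent.Lib.GoldschmidtFusion

/-!
# `V_P = V₁ × V₂` (five modules) excludes the configuration `One` for `S₁ = N_S(V₁)` (OMEGA, II.d SwNat, bb #16772)

helper617 (paper proof helper341).  `w : Wr S P M₁ M₂`, `σ = M₁.e ss`, `τ = M₂.e ss`, `S₁ = N_S(V₁)`.

* `lemE` : if `S₁` is a Sylow 2-subgroup of `C(σ) ∩ C(τ)`, then `g ∈ C(σ) ∩ C(τ)` with `[V₁, g] ≤ ⟨σ, τ⟩`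
  centralises `V₁`;
* `V₁_le_nc` : `V₁ ≤ ⟨σ^{C(τ)}⟩`;
* `false_of` : there is no configuration `One S₁ W₁ W₂ K₁ K₂ σ τ s` (`Wᵢ` four-groups).
-/

set_option autoImplicit false
set_option linter.unusedSectionVars false

namespace Cfsg.Agent.Omega.IId.SwNat

open Subgroup Cfsg Cfsg.Agent.ZN Cfsg.Agent.Omega.MinPar
open Cfsg.Agent.Omega.IId.LFour Cfsg.Agent.Omega.IId.One
open Cfsg.Agent.Omega.S5.Mod Cfsg.Agent.Omega.S5.TT
open Cfsg.Agent.Omega.S5.TT.Pos (na ns as sn n_ne s_ne a_ne n_ne_a n_ne_s a_ne_s e_sq' mem_C)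
open Cfsg.Agent.Omega.TV

universe u

variable {G : Type u} [Group G]

theorem perm_key : ∀ p : Equiv.Perm (Fin 5), (∀ x : Vec, x ∘ p.symm = x ∨ x ∘ p.symm = x + 1 ∨
    x ∘ p.symm = x + ss ∨ x ∘ p.symm = x + ss + 1) → p = 1 := by
  decide +kernel

/-- `{1, a, b, ab}` -/
def four (a b : G) (ha : a * a = 1) (hb : b * b = 1) (hab : a * b = b * a) : Subgroup G :=
  CaseA.adj (CaseA.one2 a ha) b hb (fun u hu => by
    rcases CaseA.mem_one2.1 hu with rfl | rfl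
    · simp
    · exact hab)

theorem mem_four {a b : G} {ha : a * a = 1} {hb : b * b = 1} {hab : a * b = b * a} {g : G} :
    g ∈ four a b ha hb hab ↔ g = 1 ∨ g = a ∨ g = b ∨ g = a * b := by
  rw [four, CaseA.mem_adj, CaseA.mem_one2, CaseA.mem_one2]
  have ib : b⁻¹ = b := inv_eq_of_mul_eq_one_left hb
  constructor
  · rintro ((e | e) | (e | e))
    · exact Or.inl e
    · exact Or.inr (Or.inl e)
    · exact Or.inr (Or.inr (Or.inl (by rw [← ib]; exact eq_inv_of_mul_eq_one_left e)))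
    · exact Or.inr (Or.inr (Or.inr (by rw [← e, mul_assoc, hb, mul_one])))
  · rintro (e | e | e | e)
    · exact Or.inl (Or.inl e)
    · exact Or.inl (Or.inr e)
    · exact Or.inr (Or.inl (by rw [e, hb]))
    · exact Or.inr (Or.inr (by rw [e, mul_assoc, hb, mul_one]))

section lemE

variable {S : Sylow 2 G} {P V₁ V₂ L₁ L₂ : Subgroup G} {M₁ : FiveMod V₁ L₁} {M₂ : FiveMod V₂ L₂}
variable [Finite G] (w : Wr S P M₁ M₂)
include w

theorem στ_comm : M₁.e ss * M₂.e ss = M₂.e ss * M₁.e ss := w.comm (M₁.e_mem _) (M₂.e_mem _)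

theorem στ_ne : M₁.e ss ≠ M₂.e ss := by
  intro h
  exact s_ne M₁ (w.V₁_ne_V₂ (M₁.e_mem _) (by rw [h]; exact M₂.e_mem _))

/-- **LEMMA E** -/
theorem lemE (syl : ¬ 2 ∣ ((S : Subgroup G) ⊓ normalizer (V₁ : Set G)).relIndex
      (cz (M₁.e ss) ⊓ cz (M₂.e ss))) {g : G} (hg : g ∈ cz (M₁.e ss)) (hg' : g ∈ cz (M₂.e ss))
    (h : ∀ u ∈ V₁, g * u * g⁻¹ = u ∨ g * u * g⁻¹ = u * M₁.e ss ∨ g * u * g⁻¹ = u * M₂.e ss ∨
      g * u * g⁻¹ = u * (M₁.e ss * M₂.e ss)) : ∀ u ∈ V₁, g * u * g⁻¹ = u := by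
  set σ := M₁.e ss with hσ
  set τ := M₂.e ss with hτ
  have σσ : σ * σ = 1 := M₁.e_sq _
  have ττ : τ * τ = 1 := M₂.e_sq _
  have στ : σ * τ = τ * σ := στ_comm w
  set Y : Subgroup G := four σ τ σσ ττ στ with hY
  have memY : ∀ {y : G}, y ∈ Y ↔ y = 1 ∨ y = σ ∨ y = τ ∨ y = σ * τ := mem_four
  set S₁ := (S : Subgroup G) ⊓ normalizer (V₁ : Set G) with hS₁
  -- elements of `M` centralise `Y`
  have cY : ∀ x ∈ cz σ ⊓ cz τ, ∀ y ∈ Y, x * y * x⁻¹ = y := by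
    intro x hx y hy
    have h1 := mem_cz.1 hx.1
    have h2 := mem_cz.1 hx.2
    rcases memY.1 hy with rfl | rfl | rfl | rfl
    · group
    · rw [h1, mul_inv_cancel_right]
    · rw [h2, mul_inv_cancel_right]
    · rw [← mul_assoc, h1, mul_assoc σ, h2, ← mul_assoc, mul_inv_cancel_right]
  -- the group `J`
  let J : Subgroup G :=
    { carrier := {x | x ∈ cz σ ⊓ cz τ ∧ ∀ u ∈ V₁, x * u * x⁻¹ * u⁻¹ ∈ Y}
      one_mem' := ⟨one_mem _, fun u _ => by simp [Y.one_mem]⟩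
      mul_mem' := by
        rintro a b ⟨ha, ha'⟩ ⟨hb, hb'⟩
        refine ⟨mul_mem ha hb, fun u hu => ?_⟩
        have e : a * b * u * (a * b)⁻¹ * u⁻¹ = a * (b * u * b⁻¹ * u⁻¹) * a⁻¹ * (a * u * a⁻¹ * u⁻¹) := by
          group
        rw [e, cY a ha _ (hb' u hu)]
        exact mul_mem (hb' u hu) (ha' u hu)
      inv_mem' := by
        rintro a ⟨ha, ha'⟩
        refine ⟨inv_mem ha, fun u hu => ?_⟩
        have h1 := cY _ (inv_mem ha) _ (inv_mem (ha' u hu))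
        have e : a⁻¹ * u * a⁻¹⁻¹ * u⁻¹ = a⁻¹ * (a * u * a⁻¹ * u⁻¹)⁻¹ * a⁻¹⁻¹ := by group
        rw [e, h1]
        exact inv_mem (ha' u hu) }
  have memJ : ∀ {x : G}, x ∈ J ↔ x ∈ cz σ ⊓ cz τ ∧ ∀ u ∈ V₁, x * u * x⁻¹ * u⁻¹ ∈ Y := Iff.rfl
  -- the group `C = C_J(V₁)`
  set C : Subgroup G := J ⊓ centralizer (V₁ : Set G) with hC
  have hJM : J ≤ cz σ ⊓ cz τ := fun x hx => hx.1
  have hS₁M : S₁ ≤ cz σ ⊓ cz τ := fun x hx => ⟨mem_cz.2 (w.S₁_comm_s₁ hx), mem_cz.2 (w.S₁_comm_s₂ hx)⟩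
  have hS₁J : ∀ s ∈ S₁, ∀ x ∈ J, s * x * s⁻¹ ∈ J := by
    intro s hs x hx
    refine ⟨mul_mem (mul_mem (hS₁M hs) hx.1) (inv_mem (hS₁M hs)), fun u hu => ?_⟩
    have h1 : s⁻¹ * u * s ∈ V₁ := by
      have := (mem_normalizer_iff.1 (inv_mem hs.2) u).1 hu
      rwa [inv_inv] at this
    have h2 := hx.2 _ h1
    have e : s * x * s⁻¹ * u * (s * x * s⁻¹)⁻¹ * u⁻¹ =
        s * (x * (s⁻¹ * u * s) * x⁻¹ * (s⁻¹ * u * s)⁻¹) * s⁻¹ := by group
    rw [e, cY s (hS₁M hs) _ h2]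
    exact h2
  have hS₁C : ∀ s ∈ S₁, ∀ x ∈ C, s * x * s⁻¹ ∈ C := by
    intro s hs x hx
    refine ⟨hS₁J s hs x hx.1, mem_centralizer_iff.2 fun u hu => ?_⟩
    have h1 : s⁻¹ * u * s ∈ V₁ := by
      have := (mem_normalizer_iff.1 (inv_mem hs.2) u).1 hu
      rwa [inv_inv] at this
    have h2 := mem_centralizer_iff.1 hx.2 _ h1
    calc u * (s * x * s⁻¹) = s * ((s⁻¹ * u * s) * x) * s⁻¹ := by group
      _ = s * (x * (s⁻¹ * u * s)) * s⁻¹ := by rw [h2]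
      _ = s * x * s⁻¹ * u := by group
  have hJC : ∀ s ∈ J, ∀ x ∈ C, s * x * s⁻¹ ∈ C := by
    intro s hs x hx
    refine ⟨J.mul_mem (J.mul_mem hs hx.1) (J.inv_mem hs), mem_centralizer_iff.2 fun u hu => ?_⟩
    -- `s⁻¹ u s = y u`
    have h1 := (J.inv_mem hs).2 u hu
    rw [inv_inv] at h1
    have h2 := mem_centralizer_iff.1 hx.2 _ hu
    have h3 := cY x hx.1.1 _ h1
    have e1 : s⁻¹ * u * s = (s⁻¹ * u * s * u⁻¹) * u := by group
    have h4 : x * (s⁻¹ * u * s) * x⁻¹ = s⁻¹ * u * s := by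
      calc x * (s⁻¹ * u * s) * x⁻¹ = x * (s⁻¹ * u * s * u⁻¹) * x⁻¹ * (x * u * x⁻¹) := by group
        _ = (s⁻¹ * u * s * u⁻¹) * (x * u * x⁻¹) := by rw [h3]
        _ = s⁻¹ * u * s := by rw [← h2]; group
    calc u * (s * x * s⁻¹) = s * (s⁻¹ * u * s) * x * s⁻¹ := by group
      _ = s * (x * (s⁻¹ * u * s) * x⁻¹) * x * s⁻¹ := by rw [h4]
      _ = s * x * s⁻¹ * u := by group
  -- `S₁ ∩ J ≤ C`
  have hkey : S₁ ⊓ J ≤ C := by
    rintro x ⟨hx1, hx2⟩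
    refine ⟨hx2, ?_⟩
    obtain ⟨p, q, hp, -⟩ := w.S₁_ind hx1
    have hp1 : p = 1 := by
      refine perm_key p fun y => ?_
      have h1 := hx2.2 _ (M₁.e_mem y)
      have h2 : x * M₁.e y * x⁻¹ * (M₁.e y)⁻¹ ∈ V₁ := by
        rw [hp]
        exact mul_mem (M₁.e_mem _) (inv_mem (M₁.e_mem _))
      have h3 : x * M₁.e y * x⁻¹ = M₁.e y ∨ x * M₁.e y * x⁻¹ = M₁.e y * σ := by
        rcases memY.1 h1 with e | e | e | e
        · exact Or.inl (mul_inv_eq_one.1 e)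
        · right
          rw [hσ, M₁.e_comm, ← hσ]
          exact mul_inv_eq_iff_eq_mul.1 e
        · exfalso
          rw [e] at h2
          exact s_ne M₂ (w.V₁_ne_V₂ h2 (M₂.e_mem _))
        · exfalso
          rw [e] at h2
          have h4 : τ ∈ V₁ := by
            have h5 := mul_mem (M₁.e_mem ss) h2
            rwa [← hσ, ← mul_assoc, σσ, one_mul] at h5
          exact s_ne M₂ (w.V₁_ne_V₂ h4 (M₂.e_mem _))
      rw [hp] at h3
      rcases h3 with h3 | h3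
      · rcases M₁.e_eq_iff.1 h3 with h4 | h4
        · exact Or.inl h4
        · exact Or.inr (Or.inl h4)
      · rw [hσ, ← M₁.e_add] at h3
        rcases M₁.e_eq_iff.1 h3 with h4 | h4
        · exact Or.inr (Or.inr (Or.inl h4))
        · exact Or.inr (Or.inr (Or.inr h4))
    exact FiveMod.ind_one_iff.1 (hp1 ▸ hp)
  -- normalisers
  have nJC : J ≤ normalizer (C : Set G) := Two.le_normalizer_of hJC
  have nSC : S₁ ≤ normalizer (C : Set G) := Two.le_normalizer_of hS₁C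
  have nSJ : S₁ ≤ normalizer (J : Set G) := Two.le_normalizer_of hS₁J
  -- 2-elements of `J` lie in `C`
  have hgJ : g ∈ J := by
    refine ⟨⟨hg, hg'⟩, fun u hu => ?_⟩
    have cu : ∀ y ∈ Y, u * y = y * u := by
      intro y hy
      have hu' : u ∈ cz σ ⊓ cz τ := ⟨mem_cz.2 (M₁.comm hu (M₁.e_mem _)), mem_cz.2 (w.comm hu (M₂.e_mem _))⟩
      exact mul_inv_eq_iff_eq_mul.1 (cY u hu' y hy)
    rcases h u hu with e | e | e | e
    · rw [e, mul_inv_cancel]; exact Y.one_mem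
    · rw [e, cu σ (memY.2 (Or.inr (Or.inl rfl))), mul_inv_cancel_right]
      exact memY.2 (Or.inr (Or.inl rfl))
    · rw [e, cu τ (memY.2 (Or.inr (Or.inr (Or.inl rfl)))), mul_inv_cancel_right]
      exact memY.2 (Or.inr (Or.inr (Or.inl rfl)))
    · rw [e, cu (σ * τ) (memY.2 (Or.inr (Or.inr (Or.inr rfl)))), mul_inv_cancel_right]
      exact memY.2 (Or.inr (Or.inr (Or.inr rfl)))
  obtain ⟨m, hm, htw⟩ := Cfsg.Agent.Omega.NO3S.PT.exists_odd_pow g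
  have hgm : g ^ m ∈ J := pow_mem hgJ m
  have hgC : g ^ m ∈ C := by
    have hle : S₁ ⊔ J ≤ cz σ ⊓ cz τ := sup_le hS₁M hJM
    have hsyl : ¬ 2 ∣ S₁.relIndex (S₁ ⊔ J) := fun h2 =>
      syl (h2.trans ⟨_, (relIndex_mul_relIndex S₁ (S₁ ⊔ J) (cz σ ⊓ cz τ) le_sup_left hle).symm⟩)
    have : Fact (Nat.Prime 2) := ⟨Nat.prime_two⟩
    obtain ⟨c, hc, hcD⟩ := Lib.GoldschmidtFusion.exists_conj_le_in (p := 2) (N := S₁ ⊔ J)
      (R := S₁) (D := zpowers (g ^ m)) (S.isPGroup'.to_le inf_le_left) hsyl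
      (by rw [zpowers_le]; exact mem_sup_right hgm) htw.isPGroup
    have h1 : c * g ^ m * c⁻¹ ∈ S₁ := hcD ⟨g ^ m, mem_zpowers _, rfl⟩
    have h2 : c * g ^ m * c⁻¹ ∈ J := (mem_normalizer_iff.1 ((sup_le nSJ le_normalizer) hc) _).1 hgm
    have h3 := hkey ⟨h1, h2⟩
    exact (mem_normalizer_iff.1 ((sup_le nSC nJC) hc) _).2 h3
  -- `g² ∈ C(V₁)`
  have hg2 : g ^ 2 ∈ centralizer (V₁ : Set G) := by
    refine mem_centralizer_iff.2 fun u hu => ?_
    have h1 := hgJ.2 u hu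
    have h2 := cY g hgJ.1 _ h1
    have h3 : (g * u * g⁻¹ * u⁻¹) * (g * u * g⁻¹ * u⁻¹) = 1 := by
      rcases memY.1 h1 with e | e | e | e <;> rw [e]
      · simp
      · exact σσ
      · exact ττ
      · calc σ * τ * (σ * τ) = σ * (τ * σ) * τ := by group
          _ = σ * σ * (τ * τ) := by rw [← στ]; group
          _ = 1 := by rw [σσ, ττ, one_mul]
    have h4 : g ^ 2 * u * (g ^ 2)⁻¹ = u := by
      calc g ^ 2 * u * (g ^ 2)⁻¹ = (g * (g * u * g⁻¹ * u⁻¹) * g⁻¹) * (g * u * g⁻¹ * u⁻¹) * u := by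
            rw [pow_two]; group
        _ = u := by rw [h2, h3, one_mul]
    exact (mul_inv_eq_iff_eq_mul.1 h4).symm
  obtain ⟨k, rfl⟩ := hm
  have hgV : g ∈ centralizer (V₁ : Set G) := by
    have h1 : g ^ (2 * k + 1) = (g ^ 2) ^ k * g := by rw [pow_succ, pow_mul]
    have h2 := hgC.2
    rw [h1] at h2
    exact (mul_mem_cancel_left (pow_mem hg2 k)).1 h2
  intro u hu
  rw [mul_inv_eq_iff_eq_mul]
  exact (mem_centralizer_iff.1 hgV u hu).symm

end lemE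

section core

theorem ss_comp_swap : ∀ i : Fin 5, ss ∘ (Equiv.swap (4 : Fin 5) i).symm = Pi.single i 1 := by
  decide +kernel

variable {S : Sylow 2 G} {P V₁ V₂ L₁ L₂ : Subgroup G} {M₁ : FiveMod V₁ L₁} {M₂ : FiveMod V₂ L₂}
variable [Finite G] (w : Wr S P M₁ M₂)
include w

theorem L₁_le_cz : L₁ ≤ cz (M₂.e ss) := fun _ hl => mem_cz.2 (w.L₁_comm hl (M₂.e_mem _))

/-- the nontrivial elements of `V₁` are generated by the conjugates of `σ` under `L₁` -/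
theorem V₁_le_nc : V₁ ≤ nc (M₂.e ss) {M₁.e ss} := by
  have h1 : ∀ i : Fin 5, M₁.e (Pi.single i 1) ∈ nc (M₂.e ss) {M₁.e ss} := by
    intro i
    obtain ⟨l, hl, hi⟩ := M₁.exists_lift (Equiv.swap 4 i)
    have h2 := hi ss
    rw [ss_comp_swap] at h2
    rw [← h2]
    exact conj_mem_nc (L₁_le_cz w hl) rfl
  intro v hv
  obtain ⟨x, rfl⟩ := (M₁.mem_iff v).1 hv
  have h2 : x = ∑ i, x i • (Pi.single i 1 : Vec) := by
    funext j
    simp [Finset.sum_apply, Pi.single_apply]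
  have h3 : ∀ s : Finset (Fin 5), M₁.e (∑ i ∈ s, x i • (Pi.single i 1 : Vec)) ∈ nc (M₂.e ss) {M₁.e ss} := by
    intro s
    induction s using Finset.induction_on with
    | empty => rw [Finset.sum_empty, M₁.e_zero]; exact one_mem _
    | insert a s ha ih =>
      rw [Finset.sum_insert ha, M₁.e_add]
      refine mul_mem ?_ ih
      rcases z2 (x a) with e | e
      · rw [e, zero_smul, M₁.e_zero]; exact one_mem _
      · rw [e, one_smul]; exact h1 a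
  rw [h2]
  exact h3 Finset.univ

theorem false_of {W₁ W₂ K₁ K₂ : Subgroup G} {s : G}
    (h : One.One ((S : Subgroup G) ⊓ normalizer (V₁ : Set G)) W₁ W₂ K₁ K₂ (M₁.e ss) (M₂.e ss) s) :
    False := by
  set σ := M₁.e ss with hσ
  set τ := M₂.e ss with hτ
  have syl : ¬ 2 ∣ ((S : Subgroup G) ⊓ normalizer (V₁ : Set G)).relIndex (cz σ ⊓ cz τ) :=
    h.syl h.T_leM inf_le_left
  have hVN := V₁_le_nc w
  have hn1 : M₁.e nn ≠ 1 := n_ne M₁
  have hns : M₁.e nn ≠ σ := n_ne_s M₁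
  by_cases hcom : ∀ x ∈ nc σ {τ}, ∀ y ∈ nc τ {σ}, x * y = y * x
  · -- CASE A
    have hall : AllTv (cz τ) (nc τ {σ}) := h.symm.allTv (h.hcom_symm hcom)
    have hU : CaseA.one2 σ h.vq1 ≤ nc τ {σ} := by
      intro x hx
      rcases CaseA.mem_one2.1 hx with rfl | rfl
      · exact one_mem _
      · exact h.symm.v2_mem_N1
    obtain ⟨t, ht, h1, h2, h3⟩ := hall (CaseA.one2 σ h.vq1) hU σ (CaseA.mem_one2.2 (Or.inr rfl)) (M₁.e nn)
      (hVN (M₁.e_mem _)) (fun e => (CaseA.mem_one2.1 e).elim hn1 hns)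
    have hts : t ∈ cz σ := mem_cz.2 (mul_inv_eq_iff_eq_mul.1 (h1 σ (CaseA.mem_one2.2 (Or.inr rfl))))
    have h4 := lemE w syl hts ht (fun u hu => by
      rcases h3 u (hVN hu) with e | e
      · exact Or.inl e
      · exact Or.inr (Or.inl e)) _ (M₁.e_mem nn)
    rw [h2] at h4
    exact s_ne M₁ (mul_eq_left.1 h4)
  · -- CASE B
    push Not at hcom
    have O := h.symm.orth (One.hI_symm hcom)
    have hsN : σ ∈ nc τ {σ} := h.symm.v2_mem_N1
    have htN : τ ∈ nc τ {σ} := h.symm.v1_mem (One.hI_symm hcom)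
    have hz01 : (0 : ZMod 2) ≠ 1 := by decide
    have hττ : τ * τ = 1 := h.vq2
    have hσσ : σ * σ = 1 := h.vq1
    have hNN : ∀ {x y : G}, x ∈ nc τ {σ} → y ∈ nc τ {σ} → x * y = y * x := fun hx hy => h.symm.N1_comm hx hy
    -- `B(σ, u) = 0` for `u ∈ V₁`
    have hB0 : ∀ u ∈ V₁, Bg (cz τ) σ σ u = 0 := by
      intro u hu
      obtain ⟨g, hg, hgn⟩ := O.refl σ hsN h.v1 Qg_self
      have hgs : g ∈ cz σ := by
        rcases hgn σ hsN with ⟨-, e⟩ | ⟨e, -⟩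
        · exact mem_cz.2 (mul_inv_eq_iff_eq_mul.1 e)
        · rw [O.self σ hsN] at e
          exact absurd e hz01
      rcases hgn u (hVN hu) with ⟨e, -⟩ | ⟨-, e⟩
      · exact e
      · exfalso
        have h4 := lemE w syl hgs hg (fun u hu => by
          rcases hgn u (hVN hu) with ⟨-, e⟩ | ⟨-, e⟩
          · exact Or.inl e
          · exact Or.inr (Or.inr (Or.inr e))) u hu
        rw [e] at h4
        exact h.z1 (mul_eq_left.1 h4)
    have hBn : ∀ y ∈ nc τ {σ}, Bg (cz τ) σ y τ = 0 := fun y hy => by rw [O.comm y hy τ htN, O.Bc y hy]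
    have hnN : M₁.e nn ∈ nc τ {σ} := hVN (M₁.e_mem _)
    -- `y` with `B(y, σ) = 0`, `B(y, n) = 1`
    have hy : ∃ y ∈ nc τ {σ}, Bg (cz τ) σ y σ = 0 ∧ Bg (cz τ) σ y (M₁.e nn) = 1 := by
      by_contra hcon
      have hcon' : ∀ y ∈ nc τ {σ}, Bg (cz τ) σ y σ = 0 → Bg (cz τ) σ y (M₁.e nn) = 0 := by
        intro y hy h0
        rcases z2 (Bg (cz τ) σ y (M₁.e nn)) with e | e
        · exact e
        · exact absurd ⟨y, hy, h0, e⟩ hcon
      have hnot : ∀ v ∈ V₁, v ≠ 1 → ¬ ∀ y ∈ nc τ {σ}, Bg (cz τ) σ y v = 0 := by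
        intro v hv hv1 h0
        rcases O.rad v (hVN hv) (fun y hy => by rw [O.comm v (hVN hv) y hy, h0 y hy]) with e | e
        · exact hv1 e
        · apply hv1
          exact w.V₁_ne_V₂ hv (by rw [e]; exact M₂.e_mem _)
      have h1 := hnot _ (M₁.e_mem nn) hn1
      push Not at h1
      obtain ⟨y₀, hy₀, h2⟩ := h1
      have h3 : Bg (cz τ) σ y₀ (M₁.e nn) = 1 := (z2 _).resolve_left h2
      have h4 : Bg (cz τ) σ y₀ σ = 1 := by
        rcases z2 (Bg (cz τ) σ y₀ σ) with e | e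
        · exact absurd (hcon' y₀ hy₀ e) h2
        · exact e
      refine hnot (M₁.e nn * σ) (mul_mem (M₁.e_mem _) (M₁.e_mem _)) (fun e => hns ?_) fun y hy => ?_
      · calc M₁.e nn = M₁.e nn * σ * σ := by rw [mul_assoc, hσσ, mul_one]
          _ = σ := by rw [e, one_mul]
      · rw [O.add y hy _ hnN σ hsN]
        rcases z2 (Bg (cz τ) σ y σ) with e | e
        · rw [e, hcon' y hy e, add_zero]
        · have h5 : Bg (cz τ) σ (y * y₀) (M₁.e nn) = 0 := by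
            apply hcon' _ (mul_mem hy hy₀)
            rw [O.add_left hy hy₀ hsN, e, h4]
            decide
          rw [O.add_left hy hy₀ hnN, h3] at h5
          rw [e, h5]
    obtain ⟨y, hyN, hy0, hy1⟩ := hy
    -- adjust: `Q z = 0`
    have hz : ∃ z ∈ nc τ {σ}, Bg (cz τ) σ z σ = 0 ∧ Bg (cz τ) σ z (M₁.e nn) = 1 ∧ Qg (cz τ) σ z = 0 := by
      rcases z2 (Qg (cz τ) σ y) with e | e
      · exact ⟨y, hyN, hy0, hy1, e⟩
      · refine ⟨y * τ, mul_mem hyN htN, ?_, ?_, ?_⟩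
        · rw [O.add_left hyN htN hsN, hy0, O.Bc σ hsN, add_zero]
        · rw [O.add_left hyN htN hnN, hy1, O.Bc _ hnN, add_zero]
        · rw [O.Qmulc hyN, e]
          decide
    obtain ⟨z, hzN, hz0, hz1, hzQ⟩ := hz
    have zne : z ≠ 1 := by
      rintro rfl
      rw [O.comm 1 hzN _ hnN, GOrth.Bone] at hz1
      exact hz01 hz1
    have zsN : z * σ ∈ nc τ {σ} := mul_mem hzN hsN
    have zsne : z * σ ≠ 1 := by
      intro e
      have e' : z = σ := by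
        calc z = z * σ * σ := by rw [mul_assoc, hσσ, mul_one]
          _ = σ := by rw [e, one_mul]
      rw [e', hB0 _ (M₁.e_mem _)] at hz1
      exact hz01 hz1
    have zsQ : Qg (cz τ) σ (z * σ) = 0 := by
      rw [GOrth.Q_mul, hzQ, Qg_self, hz0]
      decide
    obtain ⟨g₁, hg₁, h1⟩ := O.refl z hzN zne hzQ
    obtain ⟨g₂, hg₂, h2⟩ := O.refl (z * σ) zsN zsne zsQ
    have f1 : ∀ x ∈ nc τ {σ}, Bg (cz τ) σ z x = 0 → g₁ * x * g₁⁻¹ = x := by
      intro x hx h0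
      rcases h1 x hx with ⟨-, e⟩ | ⟨e, -⟩
      · exact e
      · rw [h0] at e
        exact absurd e hz01
    have f1' : ∀ x ∈ nc τ {σ}, Bg (cz τ) σ z x = 1 → g₁ * x * g₁⁻¹ = x * (z * τ) := by
      intro x hx h0
      rcases h1 x hx with ⟨e, -⟩ | ⟨-, e⟩
      · rw [h0] at e
        exact absurd e.symm hz01
      · exact e
    have f2 : ∀ x ∈ nc τ {σ}, Bg (cz τ) σ (z * σ) x = 0 → g₂ * x * g₂⁻¹ = x := by
      intro x hx h0
      rcases h2 x hx with ⟨-, e⟩ | ⟨e, -⟩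
      · exact e
      · rw [h0] at e
        exact absurd e hz01
    have f2' : ∀ x ∈ nc τ {σ}, Bg (cz τ) σ (z * σ) x = 1 → g₂ * x * g₂⁻¹ = x * (z * σ * τ) := by
      intro x hx h0
      rcases h2 x hx with ⟨e, -⟩ | ⟨-, e⟩
      · rw [h0] at e
        exact absurd e.symm hz01
      · exact e
    have hBzs : ∀ u ∈ V₁, Bg (cz τ) σ (z * σ) u = Bg (cz τ) σ z u := by
      intro u hu
      rw [O.add_left hzN hsN (hVN hu), hB0 u hu, add_zero]
    have gs : g₁ * g₂ ∈ cz σ := by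
      refine mul_mem (mem_cz.2 (mul_inv_eq_iff_eq_mul.1 (f1 σ hsN hz0)))
        (mem_cz.2 (mul_inv_eq_iff_eq_mul.1 (f2 σ hsN ?_)))
      rw [hBzs σ (M₁.e_mem _), hz0]
    have key : ∀ u ∈ V₁, (Bg (cz τ) σ z u = 0 ∧ g₁ * g₂ * u * (g₁ * g₂)⁻¹ = u) ∨
        (Bg (cz τ) σ z u = 1 ∧ g₁ * g₂ * u * (g₁ * g₂)⁻¹ = u * σ) := by
      intro u hu
      have e0 : g₁ * g₂ * u * (g₁ * g₂)⁻¹ = g₁ * (g₂ * u * g₂⁻¹) * g₁⁻¹ := by group
      rcases z2 (Bg (cz τ) σ z u) with e | e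
      · left
        refine ⟨e, ?_⟩
        rw [e0, f2 u (hVN hu) (by rw [hBzs u hu, e]), f1 u (hVN hu) e]
      · right
        refine ⟨e, ?_⟩
        have e1 : g₁ * (u * (z * σ * τ)) * g₁⁻¹ =
            (g₁ * u * g₁⁻¹) * ((g₁ * z * g₁⁻¹) * (g₁ * σ * g₁⁻¹) * (g₁ * τ * g₁⁻¹)) := by group
        rw [e0, f2' u (hVN hu) (by rw [hBzs u hu, e]), e1, f1' u (hVN hu) e, f1 z hzN (O.self z hzN),
          f1 σ hsN hz0, f1 τ htN (hBn z hzN)]
        have zz : z * z = 1 := O.sq z hzN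
        have c1 : τ * z = z * τ := hNN htN hzN
        have c2 : τ * σ = σ * τ := hNN htN hsN
        calc u * (z * τ) * (z * σ * τ) = u * z * (τ * z) * σ * τ := by group
          _ = u * (z * z) * (τ * σ) * τ := by rw [c1]; group
          _ = u * σ * (τ * τ) := by rw [zz, c2]; group
          _ = u * σ := by rw [hττ, mul_one]
    have h4 := lemE w syl gs (mul_mem hg₁ hg₂) (fun u hu => by
      rcases key u hu with ⟨-, e⟩ | ⟨-, e⟩
      · exact Or.inl e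
      · exact Or.inr (Or.inl e)) _ (M₁.e_mem nn)
    rcases key _ (M₁.e_mem nn) with ⟨e, -⟩ | ⟨-, e⟩
    · rw [hz1] at e
      exact hz01 e.symm
    · rw [e] at h4
      exact s_ne M₁ (mul_eq_left.1 h4)

end core

end Cfsg.Agent.Omega.IId.SwNat
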