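import Cfsg.Agent.Omega.S5.TT

/-!
# A trace argument for `S₅` (OMEGA, II.d SwNat, `Ω₁(Z(T)) = ⟨n, a, τ⟩`; helper617)

`Y : Perm (Fin 5) → A`, `A` of exponent 2, is constant on the cosets of `⟨(0 1), (2 3)⟩`,
`Y (p (0 2)(1 3)) = Y p + f`, and the trace `Z` of `Y` to `⟨(0 1)⟩ × Sym {2, 3, 4}` satisfies
`Z (p (0 2)(1 3)) = Z p + δ`.  Then `Z` is constant and the sum of `Y` over the 30 cosets is `15 f = 10 Z`, so
`f = 0` (`trace`).
-/

set_option autoImplicit false

namespace Cfsg.Agent.Omega.IId.SwNat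

open Cfsg.Agent.Omega.S5.TT

/-- a 3-cycle on `{2, 3, 4}` -/
def cc : Equiv.Perm (Fin 5) := Equiv.swap 2 3 * Equiv.swap 3 4

/-- representative of the coset `p ⟨(0 1), (2 3)⟩` -/
def can (p : Equiv.Perm (Fin 5)) : Equiv.Perm (Fin 5) :=
  let q := if p 0 < p 1 then p else p * Equiv.swap 0 1
  if q 2 < q 3 then q else q * Equiv.swap 2 3

def CC : Finset (Equiv.Perm (Fin 5)) := Finset.univ.filter fun p => p 0 < p 1 ∧ p 2 < p 3
def DD : Finset (Equiv.Perm (Fin 5)) := Finset.univ.filter fun p => p 0 < p 1 ∧ p 2 < p 3 ∧ p 0 < p 2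
def EE : Finset (Equiv.Perm (Fin 5)) := Finset.univ.filter fun p => p 0 < p 1 ∧ p 2 < p 3 ∧ p 3 < p 4

theorem CC_eq₁ : CC.val = DD.val + DD.val.map (fun p => can (p * tt)) := by decide +kernel
theorem CC_eq₂ : CC.val = EE.val + EE.val.map (fun p => can (p * cc)) +
    EE.val.map (fun p => can (p * cc * cc)) := by
  decide +kernel
theorem card_DD : DD.val.card = 15 := by decide +kernel
theorem card_EE : EE.val.card = 10 := by decide +kernel

theorem rel1 : (Equiv.swap 0 1 : Equiv.Perm (Fin 5)) * cc = cc * Equiv.swap 0 1 := by decide +kernel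
theorem rel2 : (Equiv.swap 2 3 : Equiv.Perm (Fin 5)) * cc = cc * cc * Equiv.swap 2 3 := by decide +kernel
theorem rel3 : (Equiv.swap 2 3 : Equiv.Perm (Fin 5)) * cc * cc = cc * Equiv.swap 2 3 := by decide +kernel
theorem rel4 : cc * cc * cc = 1 := by decide +kernel
theorem rel5 : (Equiv.swap 3 4 : Equiv.Perm (Fin 5)) = Equiv.swap 2 3 * cc := by decide +kernel
theorem rel6 : (Equiv.swap 2 4 : Equiv.Perm (Fin 5)) = cc * Equiv.swap 2 3 := by decide +kernel
theorem rel7 : (Equiv.swap 1 4 : Equiv.Perm (Fin 5)) = tt * Equiv.swap 3 4 * tt := by decide +kernel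
theorem rel8 : (Equiv.swap 0 4 : Equiv.Perm (Fin 5)) = tt * Equiv.swap 2 4 * tt := by decide +kernel
theorem rel9 : ∀ i j : Fin 5, i ≠ 4 → j ≠ 4 → i ≠ j →
    (Equiv.swap i j : Equiv.Perm (Fin 5)) = Equiv.swap i 4 * Equiv.swap j 4 * Equiv.swap i 4 := by
  decide +kernel

/-- a subgroup of `S₅` containing `(i 4)` for all `i` is `S₅` -/
theorem eq_top_of {H : Subgroup (Equiv.Perm (Fin 5))} (h : ∀ i : Fin 5, i ≠ 4 → Equiv.swap i 4 ∈ H) :
    H = ⊤ := by
  rw [eq_top_iff, ← Equiv.Perm.closure_isSwap, Subgroup.closure_le]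
  rintro _ ⟨i, j, hij, rfl⟩
  change Equiv.swap i j ∈ H
  by_cases hi : i = 4
  · subst hi
    rw [Equiv.swap_comm]
    exact h j (Ne.symm hij)
  by_cases hj : j = 4
  · subst hj
    exact h i hi
  rw [rel9 i j hi hj hij]
  exact H.mul_mem (H.mul_mem (h i hi) (h j hj)) (h i hi)

section

variable {A : Type*} [AddCommGroup A]

theorem trace (h2 : ∀ a : A, a + a = 0) {Y : Equiv.Perm (Fin 5) → A} {f δ : A}
    (h01 : ∀ p, Y (p * Equiv.swap 0 1) = Y p) (h23 : ∀ p, Y (p * Equiv.swap 2 3) = Y p)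
    (ht : ∀ p, Y (p * tt) = Y p + f)
    (hZ : ∀ p, Y (p * tt) + Y (p * tt * cc) + Y (p * tt * cc * cc) =
      Y p + Y (p * cc) + Y (p * cc * cc) + δ) : f = 0 := by
  set Z : Equiv.Perm (Fin 5) → A := fun p => Y p + Y (p * cc) + Y (p * cc * cc) with hZdef
  have z01 : ∀ p, Z (p * Equiv.swap 0 1) = Z p := by
    intro p
    have e1 : p * Equiv.swap 0 1 * cc = p * cc * Equiv.swap 0 1 := by rw [mul_assoc, rel1, ← mul_assoc]
    have e2 : p * cc * Equiv.swap 0 1 * cc = p * cc * cc * Equiv.swap 0 1 := by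
      rw [mul_assoc, rel1, ← mul_assoc]
    simp only [hZdef]
    rw [e1, e2, h01, h01, h01]
  have z23 : ∀ p, Z (p * Equiv.swap 2 3) = Z p := by
    intro p
    have e1 : p * Equiv.swap 2 3 * cc = p * cc * cc * Equiv.swap 2 3 := by
      rw [mul_assoc, rel2]; simp only [mul_assoc]
    have e2 : p * Equiv.swap 2 3 * cc * cc = p * cc * Equiv.swap 2 3 := by
      rw [mul_assoc, mul_assoc, ← mul_assoc (Equiv.swap 2 3), rel3]; simp only [mul_assoc]
    simp only [hZdef]
    rw [e2, e1, h23, h23, h23]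
    abel
  have zc : ∀ p, Z (p * cc) = Z p := by
    intro p
    have e1 : p * cc * cc * cc = p := by
      have : p * cc * cc * cc = p * (cc * cc * cc) := by simp only [mul_assoc]
      rw [this, rel4, mul_one]
    simp only [hZdef]
    rw [e1]
    abel
  have zt : ∀ p, Z (p * tt) = Z p + δ := hZ
  let H : Subgroup (Equiv.Perm (Fin 5)) :=
    { carrier := {g | ∀ p, Z (p * g) = Z p}
      one_mem' := fun p => by rw [mul_one]
      mul_mem' := fun {a b} ha hb p => by rw [← mul_assoc, hb, ha]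
      inv_mem' := fun {a} ha p => by
        have := ha (p * a⁻¹)
        rw [inv_mul_cancel_right] at this
        exact this.symm }
  have m01 : Equiv.swap 0 1 ∈ H := z01
  have m23 : Equiv.swap 2 3 ∈ H := z23
  have mc : cc ∈ H := zc
  have mtt : ∀ g ∈ H, tt * g * tt ∈ H := by
    intro g hg p
    have e : p * (tt * g * tt) = p * tt * g * tt := by simp only [mul_assoc]
    rw [e, zt, hg, zt, add_assoc, h2, add_zero]
  have m34 : Equiv.swap 3 4 ∈ H := by rw [rel5]; exact H.mul_mem m23 mc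
  have m24 : Equiv.swap 2 4 ∈ H := by rw [rel6]; exact H.mul_mem mc m23
  have m14 : Equiv.swap 1 4 ∈ H := by rw [rel7]; exact mtt _ m34
  have m04 : Equiv.swap 0 4 ∈ H := by rw [rel8]; exact mtt _ m24
  have hH : H = ⊤ := eq_top_of (by
    intro i hi
    fin_cases i
    · exact m04
    · exact m14
    · exact m24
    · exact m34
    · exact absurd rfl hi)
  have hconst : ∀ p, Z p = Z 1 := by
    intro p
    have h1 : p ∈ H := hH ▸ Subgroup.mem_top p
    have h2 := h1 1
    rwa [one_mul] at h2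
  have hcan : ∀ p, Y (can p) = Y p := by
    have k1 : ∀ (q : Equiv.Perm (Fin 5)) (P : Prop) [Decidable P],
        Y (if P then q else q * Equiv.swap 2 3) = Y q := by
      intro q P _
      split_ifs
      · rfl
      · exact h23 q
    have k2 : ∀ (q : Equiv.Perm (Fin 5)) (P : Prop) [Decidable P],
        Y (if P then q else q * Equiv.swap 0 1) = Y q := by
      intro q P _
      split_ifs
      · rfl
      · exact h01 q
    intro p
    exact (k1 _ _).trans (k2 _ _)
  have s1 : (CC.val.map Y).sum = 15 • f := by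
    rw [CC_eq₁, Multiset.map_add, Multiset.sum_add, Multiset.map_map, ← card_DD]
    have e : DD.val.map (Y ∘ fun p => can (p * tt)) = DD.val.map (fun p => Y p + f) :=
      Multiset.map_congr rfl fun p _ => by
        rw [Function.comp_apply, hcan, ht]
    rw [e, Multiset.sum_map_add, ← add_assoc, h2, zero_add, Multiset.map_const', Multiset.sum_replicate]
  have s2 : (CC.val.map Y).sum = 10 • Z 1 := by
    rw [CC_eq₂, Multiset.map_add, Multiset.map_add, Multiset.sum_add, Multiset.sum_add, Multiset.map_map,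
      Multiset.map_map, ← card_EE, ← Multiset.sum_replicate, ← Multiset.map_const', ← Multiset.sum_map_add,
      ← Multiset.sum_map_add]
    refine congrArg _ (Multiset.map_congr rfl fun p _ => ?_)
    rw [Function.comp_apply, Function.comp_apply, hcan, hcan]
    exact hconst p
  have e1 : (15 : ℕ) • f = f := by
    have : (15 : ℕ) • f = 7 • (f + f) + f := by abel
    rw [this, h2, nsmul_zero, zero_add]
  have e2 : ∀ z : A, (10 : ℕ) • z = 0 := by
    intro z
    have : (10 : ℕ) • z = 5 • (z + z) := by abel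
    rw [this, h2, nsmul_zero]
  rw [← e1, ← s1, s2, e2]

end

end Cfsg.Agent.Omega.IId.SwNat
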